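import Mathlib
import Groth.Agent.FittLib.BaseChange
import Groth.Prelude.Def_BlowUp2
import Groth.Prelude.Def_FlatCA

/-! Fitting ideals of the strict transform. -/

set_option autoImplicit false
set_option backward.isDefEq.respectTransparency false
universe u

open TensorProduct Groth.Agent.FittLib

namespace Groth.Agent.FittTrLib

/-- A free module of rank `k` has vanishing Fitting ideals below `k`. -/
theorem ideal_eq_bot_of_free {A : Type u} [CommRing A] {N : Type u} [AddCommGroup N] [Module A N]
    [Module.Free A N] [Module.Finite A N] [Nontrivial A] {k j : ℕ} (hk : Module.finrank A N = k) (hj : j < k) :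
    Fitt.ideal A N j = ⊥ := by
  classical
  let b := Module.finBasisOfFinrankEq A N hk
  rw [ideal_eq_D b b.span_eq, eq_bot_iff]
  refine Ideal.span_le.mpr ?_
  rintro _ ⟨a, T, hT, ha, rfl⟩
  have hne : T.Nonempty := Finset.card_pos.mp (by omega)
  obtain ⟨i, hi⟩ := hne
  show a.det ∈ (⊥ : Ideal A)
  rw [Submodule.mem_bot]
  refine Matrix.det_eq_zero_of_row_eq_zero i fun l => ?_
  exact Fintype.linearIndependent_iff.mp b.linearIndependent _ (mem_rel.mp (ha i hi)) l

/-- The Fitting ideals increase. -/
theorem ideal_mono_index {A : Type u} [CommRing A] {N : Type u} [AddCommGroup N] [Module A N]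
    [Module.Finite A N] {j k : ℕ} (h : k ≤ j) : Fitt.ideal A N k ≤ Fitt.ideal A N j := by
  obtain ⟨n, x, hx⟩ := Module.Finite.exists_fin (R := A) (M := N)
  rw [ideal_eq_D x hx, ideal_eq_D x hx]
  exact Ideal.span_mono fun d ⟨a, T, hT, ha, hd⟩ => ⟨a, T, by omega, ha, hd⟩

variable {R : Type u} [CommRing R] (M : Type u) [AddCommGroup M] [Module R M] [Module.Finite R M]

/-- Vanishing after inverting `a` is local away from `V(a)`. -/
theorem map_away_eq_bot_of_local (J₀ : Ideal R) (a : R) (L : Type u) [CommRing L] [Algebra R L] [IsLocalization.Away a L]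
    (hloc : ∀ (p : Ideal R) [p.IsPrime], a ∉ p → ∀ x ∈ J₀, ∃ s ∉ p, s * x = 0) :
    J₀.map (algebraMap R L) = ⊥ := by
  rw [Ideal.map_eq_bot_iff_le_ker]
  intro x hx
  rw [RingHom.mem_ker]
  by_contra hne
  let J : Ideal L := LinearMap.ker (LinearMap.mulRight L (algebraMap R L x))
  have hJ : J ≠ ⊤ := fun h => hne (by
    have : (1 : L) ∈ J := h ▸ Submodule.mem_top
    simpa [J] using this)
  obtain ⟨P, hP, hJP⟩ := Ideal.exists_le_maximal J hJ
  let p := P.comap (algebraMap R L)
  have hap : a ∉ p := fun h => hP.ne_top (Ideal.eq_top_of_isUnit_mem _ h (IsLocalization.Away.algebraMap_isUnit a))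
  obtain ⟨s, hs, hsx⟩ := hloc p hap x hx
  apply hs
  refine hJP ?_
  show algebraMap R L s * algebraMap R L x = 0
  rw [← map_mul, hsx, map_zero]

/-- Away from `V(a)`, the Fitting ideals below the rank vanish. -/
theorem map_away_eq_bot (k : ℕ) (a : R) (L : Type u) [CommRing L] [Algebra R L] [IsLocalization.Away a L]
    (hfree : ∀ (p : Ideal R) [p.IsPrime], a ∉ p →
      Module.Free (Localization.AtPrime p) (LocalizedModule p.primeCompl M) ∧
        Module.finrank (Localization.AtPrime p) (LocalizedModule p.primeCompl M) = k)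
    (j : ℕ) (hj : j < k) : (Fitt.ideal R M j).map (algebraMap R L) = ⊥ := by
  refine map_away_eq_bot_of_local _ a L fun p _ hap x hx => ?_
  obtain ⟨hfr, hrk⟩ := hfree p hap
  haveI := hfr
  haveI : Module.Finite (Localization.AtPrime p) (LocalizedModule p.primeCompl M) :=
    Module.Finite.of_isLocalizedModule p.primeCompl (LocalizedModule.mkLinearMap p.primeCompl M)
  have h1 : (Fitt.ideal R M j).map (algebraMap R (Localization.AtPrime p)) = ⊥ := by
    rw [← ideal_baseChange, ← ideal_eq_of_equiv
      (IsLocalizedModule.isBaseChange p.primeCompl (Localization.AtPrime p)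
        (LocalizedModule.mkLinearMap p.primeCompl M)).equiv.symm j]
    exact ideal_eq_bot_of_free hrk hj
  rw [Ideal.map_eq_bot_iff_le_ker] at h1
  obtain ⟨⟨s, hs⟩, hsx⟩ := (IsLocalization.map_eq_zero_iff p.primeCompl (Localization.AtPrime p) x).mp (h1 hx)
  exact ⟨s, hs, hsx⟩

/-- The strict transform has vanishing Fitting ideals below the rank. -/
theorem ideal_transform_eq_bot_of_map (a : R) (I : Ideal R)
    (R₁ : Type u) [CommRing R₁] [Algebra R R₁] (e : R₁ ≃ₐ[R] ↥(BlowUp.affineAlgebra R I a))
    (j : ℕ) (hmap : (Fitt.ideal R M j).map (algebraMap R (Localization.Away a)) = ⊥) :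
    Fitt.ideal R₁ ((R₁ ⊗[R] M) ⧸ FlatCA.powTorsion R₁ (algebraMap R R₁ a) (R₁ ⊗[R] M)) j = ⊥ := by
  let φ : R₁ →ₐ[R] Localization.Away a := (BlowUp.affineAlgebra R I a).val.comp e.toAlgHom
  have hφ : Function.Injective φ := Subtype.val_injective.comp e.injective
  letI : Algebra R₁ (Localization.Away a) := φ.toRingHom.toAlgebra
  haveI : IsScalarTower R R₁ (Localization.Away a) := IsScalarTower.of_algebraMap_eq fun r => (φ.commutes r).symm
  let N := R₁ ⊗[R] M
  let W := FlatCA.powTorsion R₁ (algebraMap R R₁ a) N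
  let ψ : N →ₗ[R₁] Localization.Away a ⊗[R] M :=
    TensorProduct.AlgebraTensorModule.map (Algebra.linearMap R₁ (Localization.Away a)) LinearMap.id
  have hW : W ≤ LinearMap.ker ψ := by
    refine iSup_le fun n z hz => ?_
    rw [Submodule.mem_torsionBy_iff] at hz
    rw [LinearMap.mem_ker]
    have h1 := congrArg ψ hz
    rw [map_smul, map_zero, ← algebraMap_smul (Localization.Away a), map_pow,
      ← IsScalarTower.algebraMap_apply] at h1
    exact (((IsLocalization.Away.algebraMap_isUnit (S := Localization.Away a) a).pow n).smul_eq_zero).mp h1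
  let g : Localization.Away a ⊗[R₁] (N ⧸ W) →ₗ[Localization.Away a] Localization.Away a ⊗[R] M :=
    (W.liftQ ψ hW).liftBaseChange (Localization.Away a)
  have hg : Function.Surjective g := fun y => by
    induction y using TensorProduct.induction_on with
    | zero => exact ⟨0, map_zero _⟩
    | tmul l m =>
      refine ⟨l ⊗ₜ Submodule.Quotient.mk ((1 : R₁) ⊗ₜ[R] m), ?_⟩
      simp only [g, LinearMap.liftBaseChange_tmul, Submodule.liftQ_apply]
      show l • ((algebraMap R₁ (Localization.Away a) 1) ⊗ₜ[R] m) = l ⊗ₜ[R] m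
      rw [map_one, TensorProduct.smul_tmul', smul_eq_mul, mul_one]
    | add x y hx hy =>
      obtain ⟨x', rfl⟩ := hx
      obtain ⟨y', rfl⟩ := hy
      exact ⟨x' + y', map_add _ _ _⟩
  haveI : Module.Finite R₁ (N ⧸ W) := Module.Finite.of_surjective W.mkQ W.mkQ_surjective
  have h1 := ideal_mono_of_surjective g hg j
  rw [ideal_baseChange, ideal_baseChange, hmap, le_bot_iff] at h1
  exact (Ideal.map_eq_bot_iff_of_injective (f := algebraMap R₁ (Localization.Away a)) hφ).mp h1

/-- The strict transform has vanishing Fitting ideals below the rank. -/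
theorem ideal_transform_eq_bot (k : ℕ) (a : R) (I : Ideal R)
    (hfree : ∀ (p : Ideal R) [p.IsPrime], a ∉ p →
      Module.Free (Localization.AtPrime p) (LocalizedModule p.primeCompl M) ∧
        Module.finrank (Localization.AtPrime p) (LocalizedModule p.primeCompl M) = k)
    (R₁ : Type u) [CommRing R₁] [Algebra R R₁] (e : R₁ ≃ₐ[R] ↥(BlowUp.affineAlgebra R I a))
    (j : ℕ) (hj : j < k) :
    Fitt.ideal R₁ ((R₁ ⊗[R] M) ⧸ FlatCA.powTorsion R₁ (algebraMap R R₁ a) (R₁ ⊗[R] M)) j = ⊥ :=
  ideal_transform_eq_bot_of_map M a I R₁ e j (map_away_eq_bot M k a (Localization.Away a) hfree j hj)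

end Groth.Agent.FittTrLib
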