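import Mathlib
import Groth.Agent.FittLib.BaseChange

/-! Quotients by torsion when a Fitting ideal becomes principal. -/

set_option autoImplicit false
universe u

open TensorProduct Groth.Agent.FittLib

namespace Groth.Agent.FittTrLib

theorem ideal_quot_eq_top {R : Type u} [CommRing R] (M : Type u) [AddCommGroup M] [Module R M]
    [Module.Finite R M] (k : ℕ) (R₁ : Type u) [CommRing R₁] [Algebra R R₁] (aR : R₁)
    (hreg : ∀ z : R₁, aR * z = 0 → z = 0)
    (hmap : (Fitt.ideal R M k).map (algebraMap R R₁) = Ideal.span {aR})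
    (W : Submodule R₁ (R₁ ⊗[R] M)) (hW : ∀ z, aR • z = 0 → z ∈ W) :
    Fitt.ideal R₁ ((R₁ ⊗[R] M) ⧸ W) k = ⊤ := by
  classical
  obtain ⟨n, x, hx⟩ := Module.Finite.exists_fin (R := R) (M := M)
  let N := R₁ ⊗[R] M
  let q : N →ₗ[R₁] N ⧸ W := Submodule.mkQ _
  let x' : Fin n → N := fun i ↦ (1 : R₁) ⊗ₜ[R] x i
  have hx' : Submodule.span R₁ (Set.range x') = ⊤ := span_one_tmul x hx R₁
  have hD : D R₁ x' k = Ideal.span {aR} := by
    rw [← ideal_eq_D x' hx', ideal_baseChange, hmap]
  -- the ideal of quotients `det / a`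
  let J : Ideal R₁ := Ideal.span {t | aR * t ∈ dets R₁ x' k}
  have hJ : (1 : R₁) ∈ J := by
    have hle : D R₁ x' k ≤ Ideal.span {aR} * J := Ideal.span_le.2 fun d hd ↦ by
      obtain ⟨t, rfl⟩ := Ideal.mem_span_singleton'.1 (show d ∈ Ideal.span {aR} from hD ▸ (Ideal.subset_span hd : d ∈ D R₁ x' k))
      rw [SetLike.mem_coe, mul_comm t aR]
      exact Ideal.mul_mem_mul (Ideal.mem_span_singleton_self _)
        (Ideal.subset_span (show aR * t ∈ dets R₁ x' k by rw [mul_comm]; exact hd))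
    obtain ⟨j, hj, hje⟩ := Ideal.mem_span_singleton_mul.1
      (hle (hD ▸ Ideal.mem_span_singleton_self aR))
    have : j - 1 = 0 := hreg _ (by rw [mul_sub, hje, mul_one, sub_self])
    rwa [sub_eq_zero.1 this] at hj
  by_contra hne
  obtain ⟨P, hP, hle⟩ := Ideal.exists_le_maximal _ hne
  have := hP.isPrime
  have hsub : ¬ {t | aR * t ∈ dets R₁ x' k} ⊆ (P : Set R₁) := fun h ↦
    hP.ne_top ((Ideal.eq_top_iff_one _).2 (Ideal.span_le.2 h hJ))
  obtain ⟨t, ⟨A, T, hT, hA, hdet⟩, htP⟩ := Set.not_subset.1 hsub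
  let S := Submonoid.powers t
  have hd : Disjoint (S : Set R₁) (P : Set R₁) := by
    rw [Set.disjoint_left]
    rintro _ ⟨l, rfl⟩ hm
    exact htP (Ideal.IsPrime.mem_of_pow_mem ‹_› l hm)
  have hcard : Tᶜ.card ≤ k := by
    rw [Finset.card_compl, Fintype.card_fin]; omega
  let g₀ : Fin Tᶜ.card → LocalizedModule S (N ⧸ W) := fun i ↦
    LocalizedModule.mkLinearMap S _ (q (∑ l, A (Tᶜ.equivFin.symm i) l • x' l))
  obtain ⟨g, hg⟩ := exists_padded (S := Localization S) g₀ (by
    refine eq_top_iff.2 fun y _ ↦ ?_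
    have hgen : Submodule.span R₁ (Set.range (q ∘ x')) = ⊤ := by
      rw [Set.range_comp, Submodule.span_image, hx', Submodule.map_top, Submodule.range_mkQ]
    have := span_eq_top_of_isLocalizedModule (Localization S) S
      (LocalizedModule.mkLinearMap S _) hgen
    rw [← top_le_iff] at this
    refine Submodule.span_le.2 ?_ (this Submodule.mem_top)
    rintro _ ⟨_, ⟨j, rfl⟩, rfl⟩
    have hadj : ∀ i : (Tᶜ : Finset (Fin n)), ∃ c, A.adjugate j i = c * aR := fun i ↦ by
      obtain ⟨c, hc⟩ := Ideal.mem_span_singleton'.1 (hD ▸ det_mem_D (k := k) (x := x')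
        (a := A.updateRow i (Pi.single j 1)) T hT fun l hl ↦ by
          rw [Matrix.updateRow_ne (ne_of_mem_of_not_mem hl (Finset.mem_compl.1 i.2))]; exact hA l hl)
      exact ⟨c, by rw [Matrix.adjugate_apply, hc]⟩
    choose c hc using hadj
    have h0 : aR • (t • x' j - ∑ i : (Tᶜ : Finset (Fin n)), c i • ∑ l, A i l • x' l) = 0 := by
      rw [smul_sub, ← mul_smul, hdet, det_smul, ← Finset.sum_subset (Finset.subset_univ Tᶜ)
        fun i _ hi ↦ by rw [mem_rel.1 (hA i (by simpa using hi)), smul_zero],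
        ← Finset.sum_coe_sort, Finset.smul_sum, sub_eq_zero]
      exact Finset.sum_congr rfl fun i _ ↦ by rw [hc i, ← mul_smul, mul_comm]
    have h1 : t • q (x' j) = ∑ i : (Tᶜ : Finset (Fin n)), c i • q (∑ l, A i l • x' l) := by
      have h2 : q (t • x' j - ∑ i : (Tᶜ : Finset (Fin n)), c i • ∑ l, A i l • x' l) = 0 :=
        (Submodule.Quotient.mk_eq_zero _).2 (hW _ h0)
      rw [map_sub, sub_eq_zero, map_smul, map_sum] at h2
      rw [h2]
      exact Finset.sum_congr rfl fun i _ ↦ map_smul q _ _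
    have hu : IsUnit (algebraMap R₁ (Localization S) t) :=
      IsLocalization.map_units _ (⟨t, Submonoid.mem_powers t⟩ : S)
    refine (Submodule.smul_mem_iff_of_isUnit _ hu).1 ?_
    rw [algebraMap_smul]
    change t • LocalizedModule.mkLinearMap S _ (q (x' j)) ∈ _
    rw [← map_smul, h1, map_sum]
    refine Submodule.sum_mem _ fun i _ ↦ ?_
    rw [map_smul, ← algebraMap_smul (Localization S)]
    exact Submodule.smul_mem _ _ (Submodule.subset_span
      ⟨Tᶜ.equivFin i, by simp only [g₀, Equiv.symm_apply_apply]⟩)) hcard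
  exact not_le_of_span_localized P S hd g hg hle

end Groth.Agent.FittTrLib
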